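import Mathlib
import Groth.Agent.Lib.Lead.RR.SurfKit2
import Groth.Agent.Lib.Helper5.IntN.Klei6
import Groth.Agent.Lib.Helper5.IntN.Num8
import Groth.Agent.Lib.Helper5.IntN.Section
import Groth.Agent.Lib.Helper5.IntN.Cartier
import Groth.Agent.Lib.Helper5.DegC.Cartier
import Groth.Agent.Lib.Lead.QC.TensorExact
import Groth.Agent.Lib.Lead.QC.SuppSES
import Groth.Agent.Lib.Helper2.HilbDegB
import Groth.Agent.Lib.Helper5.Curve6.PtTwist

/-!
# Nef invertible modules on a projective surface

* `nefMod_of_forall_curve`: nefness tested on integral curves gives `NefMod`.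
* `sq_nonneg_of_nefMod`: `N² ≥ 0` for nef `N` on a projective surface (Kleiman).
* `curve_orth`: if `N` is nef and `H·N = 0` for an ample `H`, then `N·C = 0` for every curve `C`.
-/

set_option autoImplicit false
universe u
open CategoryTheory Limits Opposite Abelian AlgebraicGeometry TopologicalSpace

namespace Groth.Agent.H5.NefOrth

open Groth.Agent.LD Groth.Agent.LD.QC Groth.Agent.H5.IntN Groth.Agent.LD.RRS.Kit
  Groth.Agent.H5.Curve4 Groth.Agent.H5.DegC Groth.Agent.H5.Snap

attribute [-instance] Groth.Agent.LD.QC.stalkModule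

variable (k : Type u) [Field k] {X : Scheme.{u}} [X.Over (Spec (CommRingCat.of k))]
  [IsProper (X ↘ Spec (CommRingCat.of k))]

/-- the one-slot symbol as a difference of Euler characteristics. -/
lemma intNum_one_eq (D : ℕ) (hD : topologicalKrullDim X ≤ D) (A : X.Modules)
    (hA : PicF.IsInvertible A) (T : X.Modules) (hT : Coh.IsCoh T) :
    FGA.intNum k X D (fun _ : Fin 1 => A) T =
      Curv2.euler k X T - Curv2.euler k X (CohB1.tensorMod A T) := by
  haveI := Curve.isLocallyNoetherian k X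
  let M₀ : Fin 0 → X.Modules := fun i => i.elim0
  have hM₀c : ∀ i, Coh.IsCoh (M₀ i) := fun i => i.elim0
  have hAc := isCoh_of_isInvertible hA
  haveI := hAc.1
  haveI := hT.1
  have hATc : Coh.IsCoh (CohB1.tensorMod A T) := DegC.isCoh_tensorMod' hAc hT
  have hfam : (fun _ : Fin 1 => A) = (Fin.cons A M₀ : Fin 1 → X.Modules) :=
    const_fin_one_eq_cons _ M₀
  rw [hfam, intNum_cons k D 0 _ hAc M₀ hM₀c _ hT, intNum_zero, intNum_zero,
    eulerCharLE_eq_euler k D hD _ hT, eulerCharLE_eq_euler k D hD _ hATc]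

/-- nefness tested on integral curves implies `NefMod`. -/
theorem nefMod_of_forall_curve (N : X.Modules) (hN : PicF.IsInvertible N)
    (hnef : ∀ C : X.IdealSheafData, IsIntegral C.subscheme →
      topologicalKrullDim (C.support : Set X) = 1 →
        0 ≤ Curv2.euler k X (CohB1.tensorMod (ClSub.quotMod C) N) -
          Curv2.euler k X (ClSub.quotMod C)) :
    NefMod k X N := by
  obtain ⟨d, hd⟩ := Groth.Agent.H9.ORB3.exists_nat_dim_le (X ↘ Spec (CommRingCat.of k))
  haveI := (isCoh_of_isInvertible hN).1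
  intro T hT hdim
  have h1 := intNum_one_nonpos_of_forall_curve k d hd N hN ?_ T hT hdim
  · rw [intNum_one_eq k d hd N hN T hT] at h1
    linarith
  · intro ξ hξ
    rw [intNum_one_eq k d hd N hN _ (isCoh_quotMod _)]
    have h2 := hnef (vI ξ) (isIntegral_vI ξ) (by rw [coe_support_vI, hξ]; rfl)
    rw [Curve.euler_iso k X (tensorCommAll (ClSub.quotMod (vI ξ)) N)] at h2
    linarith

/-- **Kleiman**: a nef invertible module on a projective surface has nonnegative square. -/
theorem sq_nonneg_of_nefMod (hd : topologicalKrullDim X ≤ ((2 : ℕ) : WithBot ℕ∞))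
    (H : X.Modules) (hH : CohB1.IsAmple H) (N : X.Modules) (hN : PicF.IsInvertible N)
    (hnef : NefMod k X N) :
    0 ≤ FGA.intNum k X 2 ![N, N] (Coh.structureModule X) := by
  obtain ⟨N', hN', ⟨eN⟩⟩ := Groth.Agent.H5.Glue.exists_inverse N hN
  obtain ⟨H', hH', ⟨eH⟩⟩ := Groth.Agent.H5.Glue.exists_inverse H hH.1
  have h := kProp k 2 X 2 hd H H' N N' hH ⟨eH⟩ hN ⟨eN⟩ hnef Finset.univ (unitMod X)
    (Groth.Agent.LD.PF.isCoh_unitMod X) (supp_le hd _)
  have hfam : fam N' H' (Finset.univ : Finset (Fin 2)) = ![N', N'] := by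
    funext i
    unfold fam
    rw [if_pos (Finset.mem_univ i)]
    fin_cases i <;> rfl
  rw [hfam, intNum_inv_inv k hd N N' N N' hN hN eN eN] at h
  exact h

variable [IsIntegral X]

/-- **the curve step**: if `N` is nef and orthogonal to an ample `H` on an integral projective
surface, then `N` has degree zero on every proper closed subscheme. -/
theorem curve_orth (hdim : topologicalKrullDim X = 2) (H : X.Modules) (hH : CohB1.IsAmple H)
    (N N' : X.Modules) (hN : PicF.IsInvertible N)
    (eN : CohB1.tensorMod N N' ≅ Coh.structureModule X)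
    (hnef : NefMod k X N) (hHN : FGA.intNum k X 2 ![H, N] (Coh.structureModule X) = 0)
    (C : X.IdealSheafData) (hC : (C.support : Set X) ≠ Set.univ) :
    FGA.intNum k X 2 (fun _ : Fin 1 => N') (ClSub.quotMod C) = 0 := by
  classical
  haveI : IsNoetherian X := Curve2.isNoetherian_of_proper k X
  have hd : topologicalKrullDim X ≤ ((2 : ℕ) : WithBot ℕ∞) := le_of_eq hdim
  have hdimr : topologicalKrullDim X ≤ ((1 + 1 : ℕ) : WithBot ℕ∞) := le_of_eq hdim
  have hN' : PicF.IsInvertible N' := QC.isInvertible_of_tensor_iso hN eN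
  obtain ⟨H', hH', ⟨eH⟩⟩ := Groth.Agent.H5.Glue.exists_inverse H hH.1
  have hQ : Coh.IsCoh (ClSub.quotMod C) := isCoh_quotMod C
  have hOc : Coh.IsCoh (unitMod X) := Groth.Agent.LD.PF.isCoh_unitMod X
  have hIc : Coh.IsCoh (ClSub.idealMod C) := isCoh_kernel _ hOc hQ
  haveI := hIc.1
  have hSE := DegC.shortExact_idealMod C
  -- the ideal is nonzero
  have hI0 : ¬ IsZero (ClSub.idealMod C) := by
    intro h0
    have h1 := support_of_shortExact hSE
    change CohB1.support (unitMod X) = CohB1.support (ClSub.idealMod C) ∪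
      CohB1.support (ClSub.quotMod C) at h1
    rw [support_eq_empty_of_isZero h0, Set.empty_union, support_quotMod,
      support_unitMod_eq_univ] at h1
    exact hC h1.symm
  obtain ⟨n₀, hn₀⟩ := exists_epi_free_of_isAmple H hH (ClSub.idealMod C) hIc.2
  obtain ⟨m, hm⟩ : ∃ m, m = n₀ + 1 := ⟨_, rfl⟩
  obtain ⟨K, p, hp⟩ := hn₀ m (by omega)
  have hPm : PicF.IsInvertible (CohB1.tensorPow H m) := isInvertible_tensorPow hH.1 m
  haveI := qc_of_isInvertible _ hPm
  have hIH0 : ¬ IsZero (CohB1.tensorMod (ClSub.idealMod C) (CohB1.tensorPow H m)) := by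
    intro h0
    apply hI0
    apply isZero_of_support_eq_empty
    obtain ⟨P', hP', ⟨eP⟩⟩ := Groth.Agent.H5.Glue.exists_inverse _ hPm
    rw [← Groth.Agent.H2.HilbDeg.support_tensor_invertible (ClSub.idealMod C) hIc _ P' hPm hP' eP]
    exact support_eq_empty_of_isZero h0
  obtain ⟨t, ht⟩ : ∃ t : unitMod X ⟶
      CohB1.tensorMod (ClSub.idealMod C) (CohB1.tensorPow H m), t ≠ 0 := by
    by_contra hcon
    push Not at hcon
    have hp0 : p = 0 := by
      refine Sigma.hom_ext _ _ (fun j => ?_)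
      rw [hcon (Sigma.ι (fun _ : Fin K => Coh.structureModule X) j ≫ p), comp_zero]
    haveI := hp
    exact hIH0 (IsZero.of_epi_eq_zero p hp0)
  haveI : Mono (ClSub.idealModι C) := hSE.mono_f
  haveI : Mono (KoszTw.tensorMap (ClSub.idealModι C) (𝟙 (CohB1.tensorPow H m))) :=
    mono_tensorMap_of_isInvertible _ _ hPm
  obtain ⟨σ, hσdef⟩ : ∃ σ : unitMod X ⟶ CohB1.tensorPow H m,
      σ = t ≫ KoszTw.tensorMap (ClSub.idealModι C) (𝟙 (CohB1.tensorPow H m)) ≫
        (unitorL (CohB1.tensorPow H m)).hom := ⟨_, rfl⟩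
  have hσ : σ ≠ 0 := by
    intro h
    apply ht
    rw [← cancel_mono (KoszTw.tensorMap (ClSub.idealModι C) (𝟙 (CohB1.tensorPow H m)) ≫
      (unitorL (CohB1.tensorPow H m)).hom), zero_comp, ← h, hσdef]
  have htw : twistBy (unitMod X) σ =
      t ≫ KoszTw.tensorMap (ClSub.idealModι C) (𝟙 (CohB1.tensorPow H m)) := by
    rw [Groth.Agent.H5.Curve6.twistBy_unit_eq, hσdef]
    simp only [Category.assoc, Iso.hom_inv_id, Category.comp_id]
  obtain ⟨hQc, hsupp, h2⟩ := intNum_cons_eq_cokernel k 2 hd hdimr ![N']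
    (fun i => by rw [Subsingleton.elim i 0]; exact hN') H H' hH.1 ⟨eH⟩ m σ hσ
  have hησ : genericPoint X ∈ CohB1.genLocus _ σ :=
    Groth.Agent.H5.Curve2.genericPoint_mem_genLocus hPm σ hσ
  have hle : topologicalKrullDim (CohB1.support (cokernel (twistBy (unitMod X) σ))) ≤
      ((1 : ℕ) : WithBot ℕ∞) := by
    apply dim_le_of_ne_univ (r := 1) hdim _ (isClosed_support_of_isCoh hQc)
    intro heq
    have : genericPoint X ∈ CohB1.support (cokernel (twistBy (unitMod X) σ)) := by
      rw [heq]; trivial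
    rw [hsupp] at this
    exact this hησ
  have hle' : topologicalKrullDim (CohB1.support (cokernel (twistBy (unitMod X) σ))) ≤ 1 := by
    simpa using hle
  -- the epimorphism onto `O_C ⊗ H^m`
  have hz : twistBy (unitMod X) σ ≫
      KoszTw.tensorMap (ClSub.toSubscheme C) (𝟙 (CohB1.tensorPow H m)) = 0 := by
    rw [htw, Category.assoc, ← tensorMap_comp_id]
    have : ClSub.idealModι C ≫ ClSub.toSubscheme C = 0 := kernel.condition _
    rw [this, tensorMap_zero_id hPm, comp_zero]
  obtain ⟨q, hqdef⟩ : ∃ q : cokernel (twistBy (unitMod X) σ) ⟶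
      CohB1.tensorMod (ClSub.quotMod C) (CohB1.tensorPow H m),
      cokernel.π (twistBy (unitMod X) σ) ≫ q =
        KoszTw.tensorMap (ClSub.toSubscheme C) (𝟙 (CohB1.tensorPow H m)) :=
    ⟨cokernel.desc _ _ hz, cokernel.π_desc _ _ _⟩
  have hSE2 := shortExact_tensorMap_of_isInvertible hSE _ hPm
  haveI : Epi (KoszTw.tensorMap (ClSub.toSubscheme C) (𝟙 (CohB1.tensorPow H m))) := hSE2.epi_g
  haveI : Epi q := epi_of_epi_fac hqdef
  have hS : (ShortComplex.mk (kernel.ι q) q (kernel.condition q)).ShortExact :=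
    { exact := ShortComplex.exact_kernel q }
  have hQH : Coh.IsCoh (CohB1.tensorMod (ClSub.quotMod C) (CohB1.tensorPow H m)) :=
    Groth.Agent.H5.Curve2.isCoh_tensor_of_isInvertible hQ hPm
  have hKc : Coh.IsCoh (kernel q) := isCoh_kernel q hQc hQH
  have hadd := intNum_add k 2 hd (fun _ : Fin 1 => N') (fun _ => hN') _ hS hKc hQc hQH
  have hKdim : topologicalKrullDim (CohB1.support (kernel q)) ≤ 1 :=
    le_trans (Groth.Agent.H5.Snap.dim_mono (support_subset_of_mono (kernel.ι q))) hle'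
  have hQdim : topologicalKrullDim (CohB1.support
      (CohB1.tensorMod (ClSub.quotMod C) (CohB1.tensorPow H m))) ≤ 1 :=
    le_trans (Groth.Agent.H5.Snap.dim_mono (support_subset_of_epi q)) hle'
  have hK0 := NefMod.intNum_nonneg k hN hnef eN 2 hd (kernel q) hKc hKdim
  have hQ0 := NefMod.intNum_nonneg k hN hnef eN 2 hd _ hQH hQdim
  have hfam1 : (![N'] : Fin 1 → X.Modules) = fun _ => N' := by
    funext i
    fin_cases i
    rfl
  have h3 : FGA.intNum k X 2 ![H', N'] (Coh.structureModule X) = 0 := by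
    rw [intNum_inv_inv k hd H H' N N' hH.1 hN eH eN]; exact hHN
  have h4 : FGA.intNum k X 2 (fun _ : Fin 1 => N') (cokernel (twistBy (unitMod X) σ)) = 0 := by
    rw [← hfam1, ← h2]
    change (m : ℤ) * FGA.intNum k X 2 ![H', N'] (Coh.structureModule X) = 0
    rw [h3, mul_zero]
  have h5 : FGA.intNum k X 2 (fun _ : Fin 1 => N')
      (CohB1.tensorMod (ClSub.quotMod C) (CohB1.tensorPow H m)) = 0 := by
    change FGA.intNum k X 2 (fun _ : Fin 1 => N') (cokernel (twistBy (unitMod X) σ)) = _ at hadd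
    rw [h4] at hadd
    change 0 = FGA.intNum k X 2 (fun _ : Fin 1 => N') (kernel q) +
      FGA.intNum k X 2 (fun _ : Fin 1 => N')
        (CohB1.tensorMod (ClSub.quotMod C) (CohB1.tensorPow H m)) at hadd
    linarith
  -- remove the twist
  have hN'c := isCoh_of_isInvertible hN'
  have hPc := isCoh_of_isInvertible hPm
  have hsn := intNum_snoc k 2 1 (fun _ : Fin 1 => N') (fun _ => hN'c) (CohB1.tensorPow H m) hPc
    (ClSub.quotMod C) hQ
  have hQle : topologicalKrullDim (CohB1.support (ClSub.quotMod C)) ≤ ((1 : ℕ) : WithBot ℕ∞) := by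
    apply dim_le_of_ne_univ (r := 1) hdim _ (isClosed_support_of_isCoh hQ)
    rw [support_quotMod]; exact hC
  have hinv : ∀ i, PicF.IsInvertible
      ((Fin.snoc (fun _ : Fin 1 => N') (CohB1.tensorPow H m) : Fin (1 + 1) → X.Modules) i) := by
    intro i
    refine Fin.lastCases ?_ (fun j => ?_) i
    · rw [Fin.snoc_last]; exact hPm
    · rw [Fin.snoc_castSucc]; exact hN'
  have hzero := intNum_eq_zero k 2 hd _ hinv (ClSub.quotMod C) hQ
    (lt_of_le_of_lt hQle (by exact_mod_cast (by norm_num : (1 : ℕ) < 1 + 1)))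
  rw [hzero] at hsn
  haveI := hQ.1
  rw [intNum_iso k 2 _ (tensorCommAll (CohB1.tensorPow H m) (ClSub.quotMod C)), h5] at hsn
  linarith
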