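import Mathlib
import Groth.Agent.Lib.Lead.XS.DualTrace
import Groth.Agent.Lib.Helper5.IntN.Nak10
import Groth.Agent.Lib.Helper5.Curve4.Sat2
import Groth.Agent.Lib.Helper5.HP.HP4

/-!
# Maps from invertible modules into a torsion-free module of rank one

On an integral Noetherian scheme, a nonzero morphism from an invertible module to a coherent module
with torsion-free stalks and generic rank one is a monomorphism with torsion cokernel.
-/

set_option autoImplicit false
universe u
open CategoryTheory Limits Opposite Abelian AlgebraicGeometry TopologicalSpace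

namespace Groth.Agent.H5.SurfGrowth

open Groth.Agent.LD Groth.Agent.LD.QC Groth.Agent.H5.IntN Groth.Agent.H5.Curve4
  Groth.Agent.H1.SchFlat Groth.Agent.H5.DegC Groth.Agent.H5.Snap

attribute [-instance] Groth.Agent.LD.QC.stalkModule

variable {X : Scheme.{u}} [IsIntegral X] [IsNoetherian X]

/-- a morphism from a torsion module to a module with torsion-free stalks vanishes. -/
lemma hom_eq_zero_of_isTors (ω : X.Modules) [ω.IsQuasicoherent]
    (htf : ∀ x : X, Submodule.torsion (X.presheaf.stalk x) (ω.presheaf.stalk x) = ⊥)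
    {F : X.Modules} (hF : IsTors F) (φ : F ⟶ ω) : φ = 0 := by
  apply Groth.Agent.LD.XS.DT.hom_eq_zero_of_stalkFun_generic ω htf φ
  intro m
  haveI : Subsingleton (F.presheaf.stalk (genericPoint X)) := hF
  have h0 : m = 0 := Subsingleton.elim _ _
  rw [h0]
  exact map_zero ((TopCat.Presheaf.stalkFunctor Ab (genericPoint X)).map
    (Scheme.Modules.Hom.mapPresheaf φ)).hom

/-- **a nonzero map from an invertible module into a torsion-free module of rank one is a
monomorphism with torsion cokernel.** -/
theorem mono_and_isTors_cokernel (ω : X.Modules) (hω : Coh.IsCoh ω)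
    (htf : ∀ x : X, Submodule.torsion (X.presheaf.stalk x) (ω.presheaf.stalk x) = ⊥)
    (hrk : gdim ω = 1) (L : X.Modules) (hL : PicF.IsInvertible L) (φ : L ⟶ ω) (hφ : φ ≠ 0) :
    Mono φ ∧ IsTors (cokernel φ) := by
  haveI := hω.1
  have hLc : Coh.IsCoh L := isCoh_of_isInvertible hL
  haveI := hLc.1
  have hQc : Coh.IsCoh (cokernel φ) := isCoh_cokernel φ hLc hω
  have hKc : Coh.IsCoh (kernel φ) := isCoh_kernel φ hLc hω
  have hL1 : gdim L = 1 := gdim_of_rank ((isInvertible_iff L).mp hL)
  -- the kernel is torsion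
  have hKt : IsTors (kernel φ) := by
    by_contra hnt
    have hS := Groth.Agent.H5.HP.shortExact_coker (kernel.ι φ)
    have hCc : Coh.IsCoh (cokernel (kernel.ι φ)) := isCoh_cokernel _ hKc hLc
    have hadd := gdim_add _ hS hKc hCc
    change gdim L = gdim (kernel φ) + gdim (cokernel (kernel.ι φ)) at hadd
    have hK1 : gdim (kernel φ) ≠ 0 := fun h0 => hnt (isTors_of_gdim_eq_zero hKc h0)
    have hC0 : gdim (cokernel (kernel.ι φ)) = 0 := by omega
    have hCt : IsTors (cokernel (kernel.ι φ)) := isTors_of_gdim_eq_zero hCc hC0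
    have hfac : cokernel.π (kernel.ι φ) ≫ cokernel.desc (kernel.ι φ) φ (kernel.condition φ) = φ :=
      cokernel.π_desc _ _ _
    apply hφ
    rw [← hfac, hom_eq_zero_of_isTors ω htf hCt (cokernel.desc (kernel.ι φ) φ
      (kernel.condition φ)), comp_zero]
  have hK0 : IsZero (kernel φ) :=
    isZero_of_mono_invertible_of_isTors hL (kernel.ι φ) hKc hKt
  haveI hmono : Mono φ := Preadditive.mono_of_kernel_zero (hK0.eq_of_src _ _)
  refine ⟨hmono, ?_⟩
  have hS := Groth.Agent.H5.HP.shortExact_coker φ
  have hadd := gdim_add _ hS hLc hQc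
  change gdim ω = gdim L + gdim (cokernel φ) at hadd
  exact isTors_of_gdim_eq_zero hQc (by omega)

end Groth.Agent.H5.SurfGrowth
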