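import Mathlib
import Groth.Agent.Lib.Lead.RR.SurfKit2

/-!
# Orthogonality to a class of positive square on a regular projective surface

If `D² > 0`, `D·N = 0` and `N² = 0`, then `N·E = 0` for every invertible `E` (consequence of the
Hodge index theorem on the orthogonal complement of `D`).
-/

set_option autoImplicit false
universe u
open CategoryTheory Limits Opposite Abelian AlgebraicGeometry TopologicalSpace

namespace Groth.Agent.H5.NefOrth

open Groth.Agent.LD Groth.Agent.LD.QC Groth.Agent.H5.IntN Groth.Agent.LD.RRS.Kit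

attribute [-instance] Groth.Agent.LD.QC.stalkModule

variable (k : Type u) [Field k] {X : Scheme.{u}} [X.Over (Spec (CommRingCat.of k))]
  [IsProper (X ↘ Spec (CommRingCat.of k))]

/-- pairing a three-term integral combination with an invertible module. -/
lemma pair3 (hd : topologicalKrullDim X ≤ ((2 : ℕ) : WithBot ℕ∞))
    (A A' B B' C C' : X.Modules) (hA : PicF.IsInvertible A) (hB : PicF.IsInvertible B)
    (hC : PicF.IsInvertible C) (hA' : PicF.IsInvertible A') (hB' : PicF.IsInvertible B')
    (hC' : PicF.IsInvertible C')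
    (eA : CohB1.tensorMod A A' ≅ Coh.structureModule X)
    (eB : CohB1.tensorMod B B' ≅ Coh.structureModule X)
    (eC : CohB1.tensorMod C C' ≅ Coh.structureModule X) (x y z : ℤ)
    (T : X.Modules) (hT : PicF.IsInvertible T) :
    FGA.intNum k X 2 ![CohB1.tensorMod (zpow A A' x) (CohB1.tensorMod (zpow B B' y) (zpow C C' z)), T]
        (Coh.structureModule X) =
      x * FGA.intNum k X 2 ![A, T] (Coh.structureModule X) +
        y * FGA.intNum k X 2 ![B, T] (Coh.structureModule X) +
        z * FGA.intNum k X 2 ![C, T] (Coh.structureModule X) := by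
  have hzA := isInvertible_zpow hA hA' x
  have hzB := isInvertible_zpow hB hB' y
  have hzC := isInvertible_zpow hC hC' z
  rw [intNum_tensor_left k hd _ _ T hzA (isInvertible_tensorMod hzB hzC) hT,
    intNum_tensor_left k hd _ _ T hzB hzC hT,
    intNum_zpow_left k hd A A' T hA hT eA x, intNum_zpow_left k hd B B' T hB hT eB y,
    intNum_zpow_left k hd C C' T hC hT eC z]
  ring

lemma int_eq_zero_of_forall (a t c : ℤ) (ha : 0 < a) (h : ∀ s : ℤ, 2 * s * a * t + c ≤ 0) :
    t = 0 := by
  by_contra ht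
  have h1 := h (t * (|c| + 1))
  have ht2 : 1 ≤ t * t := by
    rcases lt_or_gt_of_ne ht with h0 | h0
    · nlinarith
    · nlinarith
  have hc : -|c| ≤ c := neg_abs_le c
  have hc0 : 0 ≤ |c| := abs_nonneg c
  have h2 : (|c| + 1) ≤ a * (t * t) * (|c| + 1) := by
    have : 1 ≤ a * (t * t) := by nlinarith
    nlinarith
  nlinarith

variable [IsAlgClosed k] [IsIntegral X]

/-- **orthogonality**: on a regular projective surface, a class `N` with `N² = 0` orthogonal to a
class `D` of positive square is orthogonal to every invertible module. -/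
theorem orth_all (hdim : topologicalKrullDim X = 2)
    (hreg : ∀ x : X, IsRegularLocalRing (X.presheaf.stalk x))
    (hproj : ∃ (n : ℕ) (ι : X ⟶ CohB1.ProjSpace n k), IsClosedImmersion ι ∧
      ι ≫ CohB1.ProjSpace.toSpec n k = (X ↘ (Spec (CommRingCat.of k))))
    (D N : X.Modules) (hD : PicF.IsInvertible D) (hN : PicF.IsInvertible N)
    (hD2 : 0 < FGA.intNum k X 2 ![D, D] (Coh.structureModule X))
    (hDN : FGA.intNum k X 2 ![D, N] (Coh.structureModule X) = 0)
    (hN2 : FGA.intNum k X 2 ![N, N] (Coh.structureModule X) = 0)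
    (E : X.Modules) (hE : PicF.IsInvertible E) :
    FGA.intNum k X 2 ![N, E] (Coh.structureModule X) = 0 := by
  have hd : topologicalKrullDim X ≤ ((2 : ℕ) : WithBot ℕ∞) := le_of_eq hdim
  obtain ⟨D', hD', ⟨eD⟩⟩ := Groth.Agent.H5.Glue.exists_inverse D hD
  obtain ⟨N', hN', ⟨eN⟩⟩ := Groth.Agent.H5.Glue.exists_inverse N hN
  obtain ⟨E', hE', ⟨eE⟩⟩ := Groth.Agent.H5.Glue.exists_inverse E hE
  obtain ⟨a, ha⟩ : ∃ a : ℤ, a = FGA.intNum k X 2 ![D, D] (Coh.structureModule X) := ⟨_, rfl⟩
  obtain ⟨b, hb⟩ : ∃ b : ℤ, b = FGA.intNum k X 2 ![D, E] (Coh.structureModule X) := ⟨_, rfl⟩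
  obtain ⟨t, ht⟩ : ∃ t : ℤ, t = FGA.intNum k X 2 ![N, E] (Coh.structureModule X) := ⟨_, rfl⟩
  obtain ⟨e, he⟩ : ∃ e : ℤ, e = FGA.intNum k X 2 ![E, E] (Coh.structureModule X) := ⟨_, rfl⟩
  have hND : FGA.intNum k X 2 ![N, D] (Coh.structureModule X) = 0 := by
    rw [intNum_comm k N D hN hD]; exact hDN
  have hED : FGA.intNum k X 2 ![E, D] (Coh.structureModule X) = b := by
    rw [intNum_comm k E D hE hD]; exact hb.symm
  have hEN : FGA.intNum k X 2 ![E, N] (Coh.structureModule X) = t := by
    rw [intNum_comm k E N hE hN]; exact ht.symm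
  rw [← ht]
  rw [← ha] at hD2
  apply int_eq_zero_of_forall a t (a * a * e - a * b * b) hD2
  intro s
  obtain ⟨M, hMdef⟩ : ∃ M : X.Modules, M = CohB1.tensorMod (zpow N N' s)
      (CohB1.tensorMod (zpow E E' a) (zpow D D' (-b))) := ⟨_, rfl⟩
  have hM : PicF.IsInvertible M := by
    rw [hMdef]
    exact isInvertible_tensorMod (isInvertible_zpow hN hN' s)
      (isInvertible_tensorMod (isInvertible_zpow hE hE' a) (isInvertible_zpow hD hD' (-b)))
  have hp : ∀ T : X.Modules, PicF.IsInvertible T →
      FGA.intNum k X 2 ![M, T] (Coh.structureModule X) =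
        s * FGA.intNum k X 2 ![N, T] (Coh.structureModule X) +
        a * FGA.intNum k X 2 ![E, T] (Coh.structureModule X) +
        (-b) * FGA.intNum k X 2 ![D, T] (Coh.structureModule X) := by
    intro T hT
    rw [hMdef]
    exact pair3 k hd N N' E E' D D' hN hE hD hN' hE' hD' eN eE eD s a (-b) T hT
  have hMD : FGA.intNum k X 2 ![D, M] (Coh.structureModule X) = 0 := by
    rw [intNum_comm k D M hD hM, hp D hD, hND, hED, ← ha]
    ring
  have hMN : FGA.intNum k X 2 ![N, M] (Coh.structureModule X) = a * t := by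
    rw [intNum_comm k N M hN hM, hp N hN, hN2, hEN, hDN]
    ring
  have hME : FGA.intNum k X 2 ![E, M] (Coh.structureModule X) = s * t + a * e - b * b := by
    rw [intNum_comm k E M hE hM, hp E hE, ← ht, ← he, ← hb]
    ring
  have hMM := hodge_index_orth k hdim hreg hproj D M hD hM (by rw [← ha]; exact hD2) hMD
  rw [hp M hM, hMN, hME, hMD] at hMM
  linarith
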